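import Cfsg.Agent.H140.TC.Fam

/-!
# S2452, `Ω_(2n+1)(q)`, `n` even: better frames, first part (helper258)

* `schur_of_det` : in dimension `2 m + 1` every frame of length `m` with invertible corner has Schur complement `1`.
* `GoodCorner` : the corners accepted by the engine.
* `frame_up` : the frame `(w, w' + (p ∧ r) w)` and its corner.
-/

set_option autoImplicit false
set_option linter.unusedSectionVars false

namespace Cfsg.Agent.H258.TW

open Module QuadraticMap Matrix Cfsg.Agent.LieClassical.OrthCore Cfsg.Agent.LieClassical.OrthTrans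
  Cfsg.Agent.LieClassical.OrthFinite Cfsg.Agent.H140.OreO Cfsg.Agent.H126.PwO Cfsg.Agent.H141.SpinFacts
open Cfsg.Agent.H434.Corn (MaxTS)
open Cfsg.Agent.H140.TC

variable {F V : Type*} [Field F] [AddCommGroup V] [Module F V] {Q : QuadraticForm F V} {m : ℕ}

/-- the corner is good -/
def GoodCorner (Q : QuadraticForm F V) (g : V → V) (w w' : Fin m → V) : Prop :=
  (∃ φ : Fin m → F, (∀ v ∈ perp Q w w', polar Q (g v) (∑ i, φ i • w' i) = 0) ∧
    ∀ c : F, φ ᵥ* corner Q g w w' ≠ c • φ) ∨
  (∃ x : Fin m → F, (∀ v ∈ perp Q w w', polar Q (g (∑ i, x i • w i)) v = 0) ∧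
    ∀ c : F, corner Q g w w' *ᵥ x ≠ c • x) ∨
  (∃ a b : Fin m → F, corner Q g w w' = vecMulVec a b - 1)

/-- an isometry of determinant one of a line is the identity -/
theorem eq_one_of_line {U : Type*} [AddCommGroup U] [Module F U] [FiniteDimensional F U] (hU : finrank F U = 1)
    {h : U ≃ₗ[F] U} (hd : LinearEquiv.det h = 1) : h = 1 := by
  have := SpecialLinearGroup.subsingleton_of_finrank_eq_one (R := F) (V := U) hU
  have h1 : (⟨h, hd⟩ : SpecialLinearGroup F U) = 1 := Subsingleton.elim _ _
  exact congrArg Subtype.val h1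

theorem schur_of_det [Finite F] [FiniteDimensional F V] (h2 : (2 : F) ≠ 0) (hQ : Nondeg Q)
    (hdim : finrank F V = 2 * m + 1) {g : V ≃ₗ[F] V} (hg : g ∈ ⁅O Q, O Q⁆) {w w' : Fin m → V}
    (hf : Frame Q w w') (hd : (corner Q g w w').det ≠ 0) : SchurOne Q g w w' := by
  have hfin : Finite (perp Q w w') := Module.finite_of_finite F
  obtain ⟨A, hA⟩ : ∃ A : GL (Fin m) F, (A : Matrix _ _ F) = corner Q g w w' :=
    ⟨Matrix.GeneralLinearGroup.mkOfDetNeZero _ hd, rfl⟩
  obtain ⟨u₁, hu₁, g₁, hg₁, u₂, hu₂, e⟩ := exists_decomp hf (comm_le hg) A hA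
  refine (schurOne_iff hf hu₁ hu₂ e).2 ?_
  have h1 := conj_mem_comm hf.toModel hf.MQ_toModel hg
  rw [e] at h1
  have h3 := (decomp_odd h2 (hf.nondeg_res hQ) hu₁ hu₂ hg₁ h1).1
  apply eq_one_of_line _ h3
  have h4 := hf.finrank_perp
  omega

/-! ### Bilinear bookkeeping -/

theorem polar_sum_left (x : Fin m → F) (w : Fin m → V) (v : V) :
    polar Q (∑ i, x i • w i) v = ∑ i, x i * polar Q (w i) v := by
  rw [← polarBilin_apply_apply, map_sum, LinearMap.sum_apply]
  simp only [map_smul, LinearMap.smul_apply, polarBilin_apply_apply, smul_eq_mul]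

theorem polar_sum_right (x : Fin m → F) (w : Fin m → V) (v : V) :
    polar Q v (∑ i, x i • w i) = ∑ i, x i * polar Q v (w i) := by
  rw [polar_comm, polar_sum_left]
  simp only [polar_comm]

theorem polar_g_right (g : V ≃ₗ[F] V) (x : Fin m → F) (w : Fin m → V) (v : V) :
    polar Q (g (∑ i, x i • w i)) v = ∑ i, x i * polar Q (g (w i)) v := by
  rw [map_sum]
  simp only [map_smul]
  exact polar_sum_left (Q := Q) x (fun i => g (w i)) v

/-- the corner as a bilinear form -/
theorem corner_dot (g : V ≃ₗ[F] V) (w w' : Fin m → V) (x y : Fin m → F) :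
    polar Q (g (∑ i, x i • w i)) (∑ i, y i • w' i) = y ⬝ᵥ (corner Q g w w' *ᵥ x) := by
  rw [polar_sum_right, dotProduct]
  refine Finset.sum_congr rfl fun i _ => ?_
  rw [polar_g_right, mulVec, dotProduct]
  congr 1
  exact Finset.sum_congr rfl fun j _ => by rw [corner_apply, mul_comm]

/-- the coordinates of a vector -/
theorem expand {w w' : Fin m → V} (hf : Frame Q w w') (v : V) :
    ∃ u ∈ perp Q w w', v = ∑ i, polar Q v (w' i) • w i + ∑ i, polar Q v (w i) • w' i + u :=
  ⟨_, hf.proj_mem v, by abel⟩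

/-- the frame `(w, w' + (p ∧ r) w)` -/
def upw (w w' : Fin m → V) (p r : Fin m → F) (i : Fin m) : V :=
  w' i + (p i • (∑ j, r j • w j) - r i • (∑ j, p j • w j))

theorem frame_up {w w' : Fin m → V} (hf : Frame Q w w') (p r : Fin m → F) : Frame Q w (upw w w' p r) := by
  have hP : ∀ i, polar Q (w' i) (∑ j, p j • w j) = p i := fun i => by rw [polar_comm, hf.polar_sum_l]
  have hR : ∀ i, polar Q (w' i) (∑ j, r j • w j) = r i := fun i => by rw [polar_comm, hf.polar_sum_l]
  have hll : ∀ a b : Fin m → F, polar Q (∑ j, a j • w j) (∑ j, b j • w j) = 0 := fun a b => by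
    rw [polar_sum_right]
    exact Finset.sum_eq_zero fun i _ => by rw [hf.polar_sum_ll, mul_zero]
  refine ⟨hf.sl, fun i => ?_, hf.ll, fun i j => ?_, fun i j => ?_⟩
  · unfold upw
    rw [sub_eq_add_neg, ← neg_smul, Q_add, hf.sr, polar_add_right, polar_smul_right, polar_smul_right, hP, hR, Q_add,
      QuadraticMap.map_smul, QuadraticMap.map_smul, hf.Q_sum_l, hf.Q_sum_l, polar_smul_left, polar_smul_right, hll]
    simp only [smul_eq_mul]
    ring
  · unfold upw
    simp only [polar_add_left, polar_add_right, polar_sub_left, polar_sub_right, polar_smul_left, polar_smul_right,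
      hf.rr, hP, hR, hll, hf.polar_sum_l, smul_eq_mul]
    ring
  · unfold upw
    have h1 : ∀ a : Fin m → F, polar Q (w i) (∑ j, a j • w j) = 0 := fun a => by rw [polar_comm, hf.polar_sum_ll]
    simp only [polar_add_right, polar_sub_right, polar_smul_right, hf.lr, h1, smul_zero, sub_zero, add_zero]

theorem corner_up (g : V ≃ₗ[F] V) {w w' : Fin m → V} (p r : Fin m → F) :
    corner Q g w (upw w w' p r) = corner Q g w w' +
      (vecMulVec p (fun j => polar Q (g (w j)) (∑ l, r l • w l)) -
        vecMulVec r (fun j => polar Q (g (w j)) (∑ l, p l • w l))) := by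
  ext i j
  simp only [corner_apply, Matrix.add_apply, Matrix.sub_apply, vecMulVec_apply, upw, polar_add_right, polar_sub_right,
    polar_smul_right, smul_eq_mul]

theorem perp_up {w w' : Fin m → V} (p r : Fin m → F) {v : V} :
    v ∈ perp Q w (upw w w' p r) ↔ v ∈ perp Q w w' := by
  have h0 : (∀ i, polar Q (w i) v = 0) → ∀ a : Fin m → F, polar Q (∑ j, a j • w j) v = 0 := fun h a => by
    rw [polar_sum_left]
    exact Finset.sum_eq_zero fun i _ => by rw [h, mul_zero]
  rw [mem_perp, mem_perp]
  constructor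
  · intro h i
    refine ⟨(h i).1, ?_⟩
    have h1 := (h i).2
    unfold upw at h1
    rw [polar_add_left, polar_sub_left, polar_smul_left, polar_smul_left, h0 fun i => (h i).1, h0 fun i => (h i).1,
      smul_zero, smul_zero, sub_zero, add_zero] at h1
    exact h1
  · intro h i
    refine ⟨(h i).1, ?_⟩
    unfold upw
    rw [polar_add_left, polar_sub_left, polar_smul_left, polar_smul_left, h0 fun i => (h i).1, h0 fun i => (h i).1,
      smul_zero, smul_zero, sub_zero, add_zero]
    exact (h i).2

end Cfsg.Agent.H258.TW
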