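import Cfsg.Agent.H258.TW.StepC

/-!
# S2452, `Ω_(2n+1)(q)`, `n` even: better frames (helper258)

* `good_frame` : every nonscalar `g ∈ Ω` of a quadratic space of dimension `2 m + 1`, `m ≥ 4`, odd characteristic, has a
  maximal frame with Schur complement `1` and nonscalar corner `A` of determinant `1` such that
  (1) some functional `φ` killing the `v₀`-part is not an eigenvector of `A`, or
  (2) some vector `x` killed by the `v₀`-part is not an eigenvector of `A`, or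
  (3) `A + 1` has rank one.
-/

set_option autoImplicit false
set_option linter.unusedSectionVars false

namespace Cfsg.Agent.H258.TW

open Module QuadraticMap Matrix Cfsg.Agent.LieClassical.OrthCore Cfsg.Agent.LieClassical.OrthTrans
  Cfsg.Agent.LieClassical.OrthFinite Cfsg.Agent.H140.OreO Cfsg.Agent.H126.PwO Cfsg.Agent.H141.SpinFacts
open Cfsg.Agent.H434.Corn (MaxTS)
open Cfsg.Agent.H140.TC

variable {F V : Type*} [Field F] [AddCommGroup V] [Module F V] {Q : QuadraticForm F V} {m : ℕ}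

theorem exists_axis [FiniteDimensional F V] (hQ : Nondeg Q) (hdim : finrank F V = 2 * m + 1)
    {w w' : Fin m → V} (hf : Frame Q w w') :
    ∃ v₀ ∈ perp Q w w', polar Q v₀ v₀ ≠ 0 ∧ ∀ u ∈ perp Q w w', ∃ t : F, u = t • v₀ := by
  have hfr : finrank F (perp Q w w') = 1 := by
    have := hf.finrank_perp
    omega
  obtain ⟨v, hv0, hv⟩ := finrank_eq_one_iff'.1 hfr
  have hsp : ∀ u ∈ perp Q w w', ∃ t : F, u = t • (v : V) := fun u hu => by
    obtain ⟨t, ht⟩ := hv ⟨u, hu⟩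
    exact ⟨t, (congrArg Subtype.val ht).symm⟩
  refine ⟨v, v.2, fun h => hv0 ?_, hsp⟩
  apply hf.nondeg_res hQ
  intro y
  obtain ⟨t, ht⟩ := hsp y y.2
  show polar Q (v : V) (y : V) = 0
  rw [ht, polar_smul_right, h, smul_zero]

theorem good_pre [FiniteDimensional F V] (h2 : (2 : F) ≠ 0) (hQ : Nondeg Q) (hm : 4 ≤ m)
    (hdim : finrank F V = 2 * m + 1) {g : V ≃ₗ[F] V} (hg : g ∈ O Q) {w w' : Fin m → V} (hf : Frame Q w w')
    (hS : SchurOne Q g w w') (hd : (corner Q g w w').det = 1)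
    (hns : ∀ c : F, corner Q g w w' ≠ c • (1 : Matrix (Fin m) (Fin m) F)) : Pre Q m g := by
  by_cases hG : GoodCorner Q g w w'
  · exact ⟨w, w', hf, hd, hns, hG⟩
  unfold GoodCorner at hG
  push Not at hG
  obtain ⟨n1, n2, n3⟩ := hG
  obtain ⟨v₀, hv, hvv, hsp⟩ := exists_axis hQ hdim hf
  obtain ⟨a, ha⟩ : ∃ a : Fin m → F, a = fun j => polar Q (g (w j)) v₀ := ⟨_, rfl⟩
  obtain ⟨b, hb⟩ : ∃ b : Fin m → F, b = fun i => polar Q (g v₀) (w' i) := ⟨_, rfl⟩
  have hb' : ∀ i, b i = polar Q ((g⁻¹ : V ≃ₗ[F] V) (w' i)) v₀ := fun i => by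
    rw [polar_inv_left hg, polar_comm, hb]
  have hae : ∀ x, a ⬝ᵥ x = 0 → ∃ c : F, corner Q g w w' *ᵥ x = c • x := by
    intro x hx
    apply n2
    intro v hv'
    obtain ⟨t, rfl⟩ := hsp v hv'
    rw [polar_smul_right, ← Bad.dotF, ← ha, hx, smul_zero]
  have hbe : ∀ y, b ⬝ᵥ y = 0 → ∃ c : F, (corner Q g w w')ᵀ *ᵥ y = c • y := by
    intro y hy
    rw [mulVec_transpose]
    apply n1
    intro v hv'
    obtain ⟨t, rfl⟩ := hsp v hv'
    rw [map_smul, polar_smul_left, polar_sum_right]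
    have h3 : ∑ i, y i * polar Q (g v₀) (w' i) = b ⬝ᵥ y := by
      rw [hb, dotProduct]
      exact Finset.sum_congr rfl fun i _ => mul_comm _ _
    rw [h3, hy, smul_zero]
  obtain ⟨c, hc⟩ := eigen_of (by omega) hae
  obtain ⟨c', hc'⟩ := eigen_of (by omega) hbe
  have ha0 : a ≠ 0 := by
    intro h
    apply hns c
    apply Matrix.ext_of_mulVec_single
    intro j
    rw [hc _ (by rw [h, zero_dotProduct]), smul_mulVec, one_mulVec]
  have hb0 : b ≠ 0 := by
    intro h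
    apply hns c'
    apply Matrix.transpose_injective
    apply Matrix.ext_of_mulVec_single
    intro j
    rw [hc' _ (by rw [h, zero_dotProduct]), transpose_smul, transpose_one, smul_mulVec, one_mulVec]
  have hcc : c' = c := by
    obtain ⟨k, l, hak, hbl, hlk⟩ := exists_dual_one (m := m) (by omega) (a := a) hb0
    have e1 : l ⬝ᵥ (corner Q g w w' *ᵥ k) = c := by rw [hc k hak, dotProduct_smul, hlk, smul_eq_mul, mul_one]
    have e2 := hc' l (by rw [dotProduct_comm]; exact hbl)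
    rw [mulVec_transpose] at e2
    rw [dotProduct_mulVec, e2, smul_dotProduct, hlk, smul_eq_mul, mul_one] at e1
    exact e1
  rw [hcc] at hc'
  have hc0 : c ≠ 0 := by
    rintro rfl
    obtain ⟨x, hx0, hax⟩ := exists_kill_one (m := m) (by omega) a
    apply hx0
    apply Matrix.eq_zero_of_mulVec_eq_zero (M := corner Q g w w') (by rw [hd]; exact one_ne_zero)
    rw [hc x hax, zero_smul]
  have B : Bad Q g w w' v₀ a c := ⟨hf, hg, hv, hvv, hsp, fun j => by rw [ha], hc0, hc, hd⟩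
  have B' : Bad Q g⁻¹ w' w v₀ b c := by
    refine ⟨hf.symm, (O Q).inv_mem hg, mem_perp_symm hv, hvv, fun u hu => hsp u (mem_perp_symm hu), hb', hc0, ?_, ?_⟩
    · rw [corner_inv hg]
      exact hc'
    · rw [corner_inv hg, det_transpose, hd]
  by_cases h1 : ∃ k₀ : Fin m → F, a ⬝ᵥ k₀ = 0 ∧ ∃ j₀, polar Q (g (∑ i, k₀ i • w i)) (w j₀) ≠ 0
  · obtain ⟨k₀, hk₀, j₀, hj₀⟩ := h1
    exact B.good_of_image (by omega) h2 ha0 hk₀ hj₀
  by_cases h1' : ∃ k₀ : Fin m → F, b ⬝ᵥ k₀ = 0 ∧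
      ∃ j₀, polar Q ((g⁻¹ : V ≃ₗ[F] V) (∑ i, k₀ i • w' i)) (w' j₀) ≠ 0
  · obtain ⟨k₀, hk₀, j₀, hj₀⟩ := h1'
    exact Pre.of_inv hg (B'.good_of_image (by omega) h2 hb0 hk₀ hj₀)
  push Not at h1 h1'
  have hW1 : ∀ x, a ⬝ᵥ x = 0 → g (∑ i, x i • w i) = c • ∑ i, x i • w i := by
    intro x hx
    have h := B.image hx
    simp only [h1 x hx, zero_smul, Finset.sum_const_zero, add_zero] at h
    exact h
  have hW2 : ∀ y, y ⬝ᵥ b = 0 → g (∑ i, y i • w' i) = c⁻¹ • ∑ i, y i • w' i := by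
    intro y hy
    rw [dotProduct_comm] at hy
    have h := B'.image hy
    simp only [h1' y hy, zero_smul, Finset.sum_const_zero, add_zero] at h
    have h3 : ∑ i, y i • w' i = g (c • ∑ i, y i • w' i) := by
      rw [← h]
      exact (g.apply_symm_apply _).symm
    rw [map_smul] at h3
    rw [eq_inv_smul_iff₀ hc0]
    exact h3.symm
  obtain ⟨κ, hκ⟩ := shape_of ha0 hb0 hc (fun y hy => by
    rw [← mulVec_transpose]
    exact hc' y (by rw [dotProduct_comm]; exact hy))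
  have hκ0 : κ ≠ 0 := by
    rintro rfl
    rw [zero_smul, zero_vecMulVec, add_zero] at hκ
    exact hns c hκ
  by_cases hc1 : c * c = 1
  · rcases mul_self_eq_one_iff.1 hc1 with rfl | rfl
    · rw [one_smul] at hκ
      have hab : a ⬝ᵥ b = 0 := by
        have e := hd
        rw [hκ, det_rank_one, dotProduct_smul, smul_eq_mul, add_eq_left] at e
        exact (mul_eq_zero.1 e).resolve_left hκ0
      refine B.good_of_one (by omega) h2 hdim hb0 (fun i => by rw [hb]) hκ hab hS (fun x hx => ?_) (fun y hy => ?_)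
      · rw [hW1 x hx, one_smul]
      · rw [hW2 y hy, inv_one, one_smul]
    · exfalso
      apply n3 (κ • b) a
      rw [hκ, neg_one_smul, sub_eq_add_neg, add_comm]
  · exact B.good_of_ne (by omega) h2 hb0 hc1 hW1 hW2

/-- **Better frames.** -/
theorem good_frame [Finite F] [FiniteDimensional F V] (h2 : (2 : F) ≠ 0) (hQ : Nondeg Q) (hm : 4 ≤ m)
    (hdim : finrank F V = 2 * m + 1) (hW : ∀ W, MaxTS Q W → finrank F W = m) {g : V ≃ₗ[F] V}
    (hg : g ∈ ⁅O Q, O Q⁆) (hs : ∀ c : F, ∃ v, g v ≠ c • v) :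
    ∃ w w' : Fin m → V, Frame Q w w' ∧ SchurOne Q g w w' ∧ (corner Q g w w').det = 1 ∧
      (∀ c : F, corner Q g w w' ≠ c • (1 : Matrix (Fin m) (Fin m) F)) ∧ GoodCorner Q g w w' := by
  obtain ⟨w, w', hf, hS, hd, hns⟩ := nsCorner hQ hg hs (by omega) hW
  obtain ⟨w, w', hf, hd, hns, hG⟩ := good_pre h2 hQ hm hdim (comm_le hg) hf hS hd hns
  exact ⟨w, w', hf, schur_of_det h2 hQ hdim hg hf (by rw [hd]; exact one_ne_zero), hd, hns, hG⟩

end Cfsg.Agent.H258.TW
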