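import Mathlib

/-!
# S2452, `Ω_(2n+1)(q)`, `n` even: vectors and matrices (helper258)
-/

set_option autoImplicit false

namespace Cfsg.Agent.H258.TW

open Matrix

variable {F : Type*} [Field F] {m : ℕ}

/-- a common zero of fewer than `m` functionals -/
theorem exists_kill {s : ℕ} (hs : s < m) (φ : Fin s → (Fin m → F)) :
    ∃ x : Fin m → F, x ≠ 0 ∧ ∀ i, φ i ⬝ᵥ x = 0 := by
  have h1 : LinearMap.ker (Matrix.mulVecLin (Matrix.of φ)) ≠ ⊥ := by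
    apply LinearMap.ker_ne_bot_of_finrank_lt
    rw [Module.finrank_fin_fun, Module.finrank_fin_fun]
    exact hs
  obtain ⟨x, hx, hx0⟩ := Submodule.exists_mem_ne_zero_of_ne_bot h1
  refine ⟨x, hx0, fun i => ?_⟩
  exact congrFun (LinearMap.mem_ker.1 hx) i

theorem exists_kill_one (hm : 1 < m) (a : Fin m → F) : ∃ x : Fin m → F, x ≠ 0 ∧ a ⬝ᵥ x = 0 := by
  obtain ⟨x, hx, h⟩ := exists_kill hm ![a]
  exact ⟨x, hx, h 0⟩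

theorem exists_kill_two (hm : 2 < m) (a b : Fin m → F) : ∃ x : Fin m → F, x ≠ 0 ∧ a ⬝ᵥ x = 0 ∧ b ⬝ᵥ x = 0 := by
  obtain ⟨x, hx, h⟩ := exists_kill hm ![a, b]
  exact ⟨x, hx, h 0, h 1⟩

theorem exists_kill_three (hm : 3 < m) (a b c : Fin m → F) :
    ∃ x : Fin m → F, x ≠ 0 ∧ a ⬝ᵥ x = 0 ∧ b ⬝ᵥ x = 0 ∧ c ⬝ᵥ x = 0 := by
  obtain ⟨x, hx, h⟩ := exists_kill hm ![a, b, c]
  exact ⟨x, hx, h 0, h 1, h 2⟩

/-- a functional with value one -/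
theorem exists_one {a : Fin m → F} (ha : a ≠ 0) : ∃ θ : Fin m → F, θ ⬝ᵥ a = 1 := by
  obtain ⟨i, hi⟩ := Function.ne_iff.1 ha
  refine ⟨(a i)⁻¹ • Pi.single i 1, ?_⟩
  rw [smul_dotProduct, single_one_dotProduct, smul_eq_mul]
  exact inv_mul_cancel₀ hi

/-- `x` is not a multiple of `p` as soon as a functional kills `x` and not `p` -/
theorem ne_smul_of {x p θ : Fin m → F} (hx : x ≠ 0) (hθ : θ ⬝ᵥ x = 0) (hp : θ ⬝ᵥ p = 1) (t : F) : x ≠ t • p := by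
  rintro rfl
  rw [dotProduct_smul, hp, smul_eq_mul, mul_one] at hθ
  exact hx (by rw [hθ, zero_smul])

/-- one dual pair -/
theorem exists_dual_one (hm : 2 < m) {a b : Fin m → F} (hb : b ≠ 0) :
    ∃ k k' : Fin m → F, a ⬝ᵥ k = 0 ∧ k' ⬝ᵥ b = 0 ∧ k' ⬝ᵥ k = 1 := by
  obtain ⟨ψ, hψ⟩ := exists_one hb
  obtain ⟨k, hk, hak, hψk⟩ := exists_kill_two hm a ψ
  obtain ⟨θ, hθ⟩ := exists_one hk
  refine ⟨k, θ - (θ ⬝ᵥ b) • ψ, hak, ?_, ?_⟩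
  · rw [sub_dotProduct, smul_dotProduct, hψ, smul_eq_mul, mul_one, sub_self]
  · rw [sub_dotProduct, smul_dotProduct, hψk, hθ, smul_zero, sub_zero]

/-- two dual pairs and a third vector -/
theorem exists_dual_two (hm : 3 < m) {a b : Fin m → F} (hb : b ≠ 0) :
    ∃ k₁ k₂ l₁ l₂ k₃ : Fin m → F, a ⬝ᵥ k₁ = 0 ∧ a ⬝ᵥ k₂ = 0 ∧ a ⬝ᵥ k₃ = 0 ∧ l₁ ⬝ᵥ b = 0 ∧ l₂ ⬝ᵥ b = 0 ∧
      l₁ ⬝ᵥ k₁ = 1 ∧ l₁ ⬝ᵥ k₂ = 0 ∧ l₂ ⬝ᵥ k₁ = 0 ∧ l₂ ⬝ᵥ k₂ = 1 ∧ l₁ ⬝ᵥ k₃ = 0 ∧ l₂ ⬝ᵥ k₃ = 0 ∧ k₃ ≠ 0 := by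
  obtain ⟨ψ, hψ⟩ := exists_one hb
  obtain ⟨k₁, hk₁, hak₁, hψk₁⟩ := exists_kill_two (by omega) a ψ
  obtain ⟨θ₁, hθ₁⟩ := exists_one hk₁
  obtain ⟨k₂, hk₂, hak₂, hψk₂, hθk₂⟩ := exists_kill_three hm a ψ θ₁
  obtain ⟨θ₂, hθ₂⟩ := exists_one hk₂
  obtain ⟨θ₃, hθ₃⟩ : ∃ θ₃, θ₃ = θ₂ - (θ₂ ⬝ᵥ k₁) • θ₁ := ⟨_, rfl⟩
  have h31 : θ₃ ⬝ᵥ k₁ = 0 := by
    rw [hθ₃, sub_dotProduct, smul_dotProduct, hθ₁, smul_eq_mul, mul_one, sub_self]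
  have h32 : θ₃ ⬝ᵥ k₂ = 1 := by
    rw [hθ₃, sub_dotProduct, smul_dotProduct, hθk₂, hθ₂, smul_zero, sub_zero]
  obtain ⟨l₁, hl₁⟩ : ∃ l₁, l₁ = θ₁ - (θ₁ ⬝ᵥ b) • ψ := ⟨_, rfl⟩
  obtain ⟨l₂, hl₂⟩ : ∃ l₂, l₂ = θ₃ - (θ₃ ⬝ᵥ b) • ψ := ⟨_, rfl⟩
  obtain ⟨k₃, hk₃, hak₃, hlk₃, hl'k₃⟩ := exists_kill_three hm a l₁ l₂
  refine ⟨k₁, k₂, l₁, l₂, k₃, hak₁, hak₂, hak₃, ?_, ?_, ?_, ?_, ?_, ?_, hlk₃, hl'k₃, hk₃⟩
  · rw [hl₁, sub_dotProduct, smul_dotProduct, hψ, smul_eq_mul, mul_one, sub_self]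
  · rw [hl₂, sub_dotProduct, smul_dotProduct, hψ, smul_eq_mul, mul_one, sub_self]
  · rw [hl₁, sub_dotProduct, smul_dotProduct, hψk₁, hθ₁, smul_zero, sub_zero]
  · rw [hl₁, sub_dotProduct, smul_dotProduct, hψk₂, hθk₂, smul_zero, sub_zero]
  · rw [hl₂, sub_dotProduct, smul_dotProduct, hψk₁, h31, smul_zero, sub_zero]
  · rw [hl₂, sub_dotProduct, smul_dotProduct, hψk₂, h32, smul_zero, sub_zero]

/-- the determinant of a rank one change -/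
theorem det_rank_one (a ρ : Fin m → F) : (1 + vecMulVec a ρ).det = 1 + ρ ⬝ᵥ a := by
  rw [vecMulVec_eq Unit, det_one_add_replicateCol_mul_replicateRow]

/-- two commuting rank one changes -/
theorem det_two {a ρ b π : Fin m → F} (h : ρ ⬝ᵥ b = 0) :
    (1 + (vecMulVec a ρ + vecMulVec b π)).det = (1 + ρ ⬝ᵥ a) * (1 + π ⬝ᵥ b) := by
  have e : (1 + (vecMulVec a ρ + vecMulVec b π) : Matrix (Fin m) (Fin m) F) =
      (1 + vecMulVec a ρ) * (1 + vecMulVec b π) := by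
    rw [add_mul, one_mul, mul_add, mul_one, vecMulVec_mul_vecMulVec, h]
    simp only [zero_smul, vecMulVec_zero]
    abel
  rw [e, det_mul, det_rank_one, det_rank_one]

/-- all vectors killed by `a` are eigenvectors: one eigenvalue -/
theorem eigen_of (hm : 2 < m) {A : Matrix (Fin m) (Fin m) F} {a : Fin m → F}
    (h : ∀ x, a ⬝ᵥ x = 0 → ∃ c : F, A *ᵥ x = c • x) : ∃ c : F, ∀ x, a ⬝ᵥ x = 0 → A *ᵥ x = c • x := by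
  obtain ⟨x₀, hx₀, hax₀⟩ := exists_kill_one (by omega) a
  obtain ⟨c, hc⟩ := h x₀ hax₀
  refine ⟨c, fun x hx => ?_⟩
  obtain ⟨d, hd⟩ := h x hx
  obtain ⟨t, ht⟩ := h (x + x₀) (by rw [dotProduct_add, hx, hax₀, add_zero])
  rw [mulVec_add, hc, hd, smul_add] at ht
  have h1 : (d - t) • x = (t - c) • x₀ := by
    rw [sub_smul, sub_smul, sub_eq_sub_iff_add_eq_add, ht]
    abel
  by_cases hdt : d = t
  · rw [hdt, sub_self, zero_smul] at h1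
    have h2 : t = c := sub_eq_zero.1 ((smul_eq_zero.1 h1.symm).resolve_right hx₀)
    rw [hd, hdt, h2]
  · have h2 : x = ((d - t)⁻¹ * (t - c)) • x₀ := by
      rw [mul_smul, ← h1, smul_smul, inv_mul_cancel₀ (sub_ne_zero.2 hdt), one_smul]
    rw [h2, mulVec_smul, hc, smul_comm]

/-- the shape `c + κ b ⊗ a` -/
theorem shape_of {A : Matrix (Fin m) (Fin m) F} {a b : Fin m → F} (ha : a ≠ 0) (hb : b ≠ 0) {c : F}
    (h : ∀ x, a ⬝ᵥ x = 0 → A *ᵥ x = c • x) (h' : ∀ y, y ⬝ᵥ b = 0 → y ᵥ* A = c • y) :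
    ∃ κ : F, A = c • (1 : Matrix (Fin m) (Fin m) F) + vecMulVec (κ • b) a := by
  obtain ⟨e, he⟩ := exists_one ha
  obtain ⟨f, hf⟩ := exists_one hb
  have he' : a ⬝ᵥ e = 1 := by rw [dotProduct_comm]; exact he
  obtain ⟨u, hu⟩ : ∃ u, u = A *ᵥ e - c • e := ⟨_, rfl⟩
  have h1 : ∀ x, A *ᵥ x = c • x + (a ⬝ᵥ x) • u := by
    intro x
    have h2 := h (x - (a ⬝ᵥ x) • e) (by rw [dotProduct_sub, dotProduct_smul, he', smul_eq_mul, mul_one, sub_self])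
    rw [mulVec_sub, mulVec_smul, smul_sub] at h2
    rw [hu, smul_sub, smul_comm (a ⬝ᵥ x) c, ← sub_eq_zero]
    rw [← sub_eq_zero] at h2
    rw [← h2]
    abel
  have h3 : ∀ y, y ⬝ᵥ b = 0 → y ⬝ᵥ u = 0 := by
    intro y hy
    have h4 : y ⬝ᵥ (A *ᵥ e) = c * (y ⬝ᵥ e) := by
      rw [dotProduct_mulVec, h' y hy, smul_dotProduct, smul_eq_mul]
    rw [hu, dotProduct_sub, h4, dotProduct_smul, smul_eq_mul, sub_self]
  refine ⟨f ⬝ᵥ u, ?_⟩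
  have h5 : u = (f ⬝ᵥ u) • b := by
    ext i
    have h6 := h3 (Pi.single i 1 - (b i) • f) (by
      rw [sub_dotProduct, smul_dotProduct, hf, single_one_dotProduct, smul_eq_mul, mul_one, sub_self])
    rw [sub_dotProduct, smul_dotProduct, single_one_dotProduct, smul_eq_mul, sub_eq_zero] at h6
    rw [h6, Pi.smul_apply, smul_eq_mul, mul_comm]
  rw [← h5]
  apply Matrix.ext_of_mulVec_single
  intro j
  rw [h1, add_mulVec, smul_mulVec, one_mulVec, vecMulVec_mulVec]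
  simp

end Cfsg.Agent.H258.TW
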