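import Cfsg.Agent.H258.TW.Basic
import Cfsg.Agent.H258.TW.Lin

/-!
# S2452, `Ω_(2n+1)(q)`, `n` even: better frames, first and second move (helper258)
-/

set_option autoImplicit false
set_option linter.unusedSectionVars false

namespace Cfsg.Agent.H258.TW

open Module QuadraticMap Matrix Cfsg.Agent.LieClassical.OrthCore Cfsg.Agent.LieClassical.OrthTrans
  Cfsg.Agent.LieClassical.OrthFinite Cfsg.Agent.H140.OreO Cfsg.Agent.H126.PwO Cfsg.Agent.H141.SpinFacts
open Cfsg.Agent.H434.Corn (MaxTS)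
open Cfsg.Agent.H140.TC

variable {F V : Type*} [Field F] [AddCommGroup V] [Module F V] {Q : QuadraticForm F V} {m : ℕ}

/-- the output, without the Schur complement -/
def Pre (Q : QuadraticForm F V) (m : ℕ) (g : V ≃ₗ[F] V) : Prop :=
  ∃ w w' : Fin m → V, Frame Q w w' ∧ (corner Q g w w').det = 1 ∧
    (∀ c : F, corner Q g w w' ≠ c • (1 : Matrix (Fin m) (Fin m) F)) ∧ GoodCorner Q g w w'

theorem polar_inv_left {g : V ≃ₗ[F] V} (hg : g ∈ O Q) (u v : V) : polar Q (g⁻¹ u) v = polar Q u (g v) := by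
  rw [← polar_map hg (g⁻¹ u) v]
  congr 1
  exact g.apply_symm_apply u

theorem corner_inv {g : V ≃ₗ[F] V} (hg : g ∈ O Q) (w w' : Fin m → V) :
    corner Q (g⁻¹ : V ≃ₗ[F] V) w' w = (corner Q g w w')ᵀ := by
  ext i j
  rw [corner_apply, transpose_apply, corner_apply, polar_inv_left hg, polar_comm]

theorem mem_perp_symm {w w' : Fin m → V} {v : V} (h : v ∈ perp Q w w') : v ∈ perp Q w' w :=
  fun i => ⟨(h i).2, (h i).1⟩

theorem Pre.of_inv {g : V ≃ₗ[F] V} (hg : g ∈ O Q) (h : Pre Q m g⁻¹) : Pre Q m g := by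
  obtain ⟨w, w', hf, hd, hns, hG⟩ := h
  have hc : corner Q g w' w = (corner Q (g⁻¹ : V ≃ₗ[F] V) w w')ᵀ := by
    have h1 := corner_inv ((O Q).inv_mem hg) w w'
    rw [inv_inv] at h1
    exact h1
  refine ⟨w', w, hf.symm, ?_, fun c h1 => hns c ?_, ?_⟩
  · rw [hc, det_transpose, hd]
  · rw [hc] at h1
    have h2 := congrArg Matrix.transpose h1
    rw [transpose_transpose, transpose_smul, transpose_one] at h2
    exact h2
  · rcases hG with ⟨φ, h1, h2⟩ | ⟨x, h1, h2⟩ | ⟨a, b, h1⟩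
    · refine Or.inr (Or.inl ⟨φ, fun v hv => ?_, fun c => ?_⟩)
      · rw [polar_comm, ← polar_inv_left hg]
        exact h1 v (mem_perp_symm hv)
      · rw [hc, mulVec_transpose]
        exact h2 c
    · refine Or.inl ⟨x, fun v hv => ?_, fun c => ?_⟩
      · rw [polar_comm, ← polar_inv_left hg]
        exact h1 v (mem_perp_symm hv)
      · rw [hc, vecMul_transpose]
        exact h2 c
    · refine Or.inr (Or.inr ⟨b, a, ?_⟩)
      rw [hc, h1, transpose_sub, transpose_one, transpose_vecMulVec]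

/-- a bad corner -/
structure Bad (Q : QuadraticForm F V) (g : V ≃ₗ[F] V) (w w' : Fin m → V) (v₀ : V) (a : Fin m → F) (c : F) :
    Prop where
  hf : Frame Q w w'
  hg : g ∈ O Q
  hv : v₀ ∈ perp Q w w'
  hq : polar Q v₀ v₀ ≠ 0
  sp : ∀ u ∈ perp Q w w', ∃ t : F, u = t • v₀
  ha : ∀ j, a j = polar Q (g (w j)) v₀
  hc : c ≠ 0
  eig : ∀ x, a ⬝ᵥ x = 0 → corner Q g w w' *ᵥ x = c • x
  det : (corner Q g w w').det = 1

namespace Bad

variable {g : V ≃ₗ[F] V} {w w' : Fin m → V} {v₀ : V} {a : Fin m → F} {c : F}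

theorem dot (B : Bad Q g w w' v₀ a c) (x : Fin m → F) : polar Q (g (∑ i, x i • w i)) v₀ = a ⬝ᵥ x := by
  rw [polar_g_right, dotProduct]
  exact Finset.sum_congr rfl fun i _ => by rw [B.ha, mul_comm]

theorem kill (B : Bad Q g w w' v₀ a c) {x : Fin m → F} (hx : a ⬝ᵥ x = 0) {v : V} (hv : v ∈ perp Q w w') :
    polar Q (g (∑ i, x i • w i)) v = 0 := by
  obtain ⟨t, rfl⟩ := B.sp v hv
  rw [polar_smul_right, B.dot, hx, smul_zero]

/-- the image of an eigenvector of the corner -/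
theorem image (B : Bad Q g w w' v₀ a c) {x : Fin m → F} (hx : a ⬝ᵥ x = 0) :
    g (∑ i, x i • w i) = c • (∑ i, x i • w i) + ∑ i, polar Q (g (∑ i, x i • w i)) (w i) • w' i := by
  obtain ⟨u, hu, e⟩ := expand B.hf (g (∑ i, x i • w i))
  obtain ⟨t, rfl⟩ := B.sp u hu
  have h1 : ∀ i, polar Q (g (∑ i, x i • w i)) (w' i) = c * x i := fun i => by
    have h2 := corner_dot (Q := Q) g w w' x (Pi.single i 1)
    rw [B.eig x hx, single_one_dotProduct, Pi.smul_apply, smul_eq_mul] at h2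
    rw [← h2]
    congr 1
    rw [Finset.sum_eq_single i (fun j _ hj => by rw [Pi.single_eq_of_ne hj, zero_smul])
      (fun h => absurd (Finset.mem_univ i) h), Pi.single_eq_same, one_smul]
  have h3 : t = 0 := by
    have h4 := B.kill hx B.hv
    rw [e, polar_add_left, polar_add_left, Frame.polar_perp_l _ B.hv, Frame.polar_perp_r _ B.hv, zero_add, zero_add,
      polar_smul_left, smul_eq_mul] at h4
    exact (mul_eq_zero.1 h4).resolve_right B.hq
  conv_lhs => rw [e]
  rw [h3, zero_smul, add_zero]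
  congr 1
  rw [Finset.smul_sum]
  exact Finset.sum_congr rfl fun i _ => by rw [h1, mul_smul]

/-- antisymmetry -/
theorem anti (B : Bad Q g w w' v₀ a c) {x y : Fin m → F} (hx : a ⬝ᵥ x = 0) (hy : a ⬝ᵥ y = 0) :
    polar Q (g (∑ i, x i • w i)) (∑ i, y i • w i) = - polar Q (g (∑ i, y i • w i)) (∑ i, x i • w i) := by
  have hll : ∀ a b : Fin m → F, polar Q (∑ j, a j • w j) (∑ j, b j • w j) = 0 := fun a b => by
    rw [polar_sum_right]
    exact Finset.sum_eq_zero fun i _ => by rw [B.hf.polar_sum_ll, mul_zero]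
  have h0 : polar Q (g (∑ i, x i • w i)) (g (∑ i, y i • w i)) = 0 := by rw [polar_map B.hg, hll]
  obtain ⟨X, hX⟩ : ∃ X, X = ∑ i, x i • w i := ⟨_, rfl⟩
  obtain ⟨Y, hY⟩ : ∃ Y, Y = ∑ i, y i • w i := ⟨_, rfl⟩
  obtain ⟨X', hX'⟩ : ∃ X', X' = ∑ i, polar Q (g (∑ i, x i • w i)) (w i) • w' i := ⟨_, rfl⟩
  obtain ⟨Y', hY'⟩ : ∃ Y', Y' = ∑ i, polar Q (g (∑ i, y i • w i)) (w i) • w' i := ⟨_, rfl⟩
  have e1 := B.image hx
  have e2 := B.image hy
  have hXY : polar Q X Y = 0 := by rw [hX, hY, hll]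
  have hX'Y' : polar Q X' Y' = 0 := by
    rw [hY', polar_sum_right]
    exact Finset.sum_eq_zero fun i _ => by rw [hX', B.hf.polar_sum_rr, mul_zero]
  rw [← hX', ← hX] at e1
  rw [← hY', ← hY] at e2
  rw [← hX, ← hY] at h0 ⊢
  rw [e1, e2] at h0 ⊢
  rw [polar_add_left, polar_add_right, polar_add_right, polar_smul_left, polar_smul_right, polar_smul_left,
    polar_smul_right, hXY, hX'Y', smul_zero, smul_zero, zero_add, add_zero] at h0
  rw [polar_add_left, polar_add_left, polar_smul_left, polar_smul_left, polar_comm Q Y X, hXY, smul_zero, zero_add,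
    zero_add]
  have h3 : c • (polar Q X Y' + polar Q X' Y) = 0 := by rw [smul_add]; exact h0
  have h4 := (smul_eq_zero.1 h3).resolve_left B.hc
  rw [polar_comm Q Y' X]
  exact eq_neg_of_add_eq_zero_right h4

theorem self (h2 : (2 : F) ≠ 0) (B : Bad Q g w w' v₀ a c) {x : Fin m → F} (hx : a ⬝ᵥ x = 0) :
    polar Q (g (∑ i, x i • w i)) (∑ i, x i • w i) = 0 := by
  have h := B.anti hx hx
  have h3 : 2 * polar Q (g (∑ i, x i • w i)) (∑ i, x i • w i) = 0 := by
    rw [two_mul]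
    nth_rw 1 [h]
    exact neg_add_cancel _
  exact (mul_eq_zero.1 h3).resolve_left h2

/-- the functional `w_j ↦ polar (g w_j) P` -/
theorem dotF (g : V ≃ₗ[F] V) (w : Fin m → V) (P : V) (x : Fin m → F) :
    (fun j => polar Q (g (w j)) P) ⬝ᵥ x = polar Q (g (∑ i, x i • w i)) P := by
  rw [polar_g_right, dotProduct]
  exact Finset.sum_congr rfl fun i _ => mul_comm _ _

/-- **The first move.** -/
theorem move_one (B : Bad Q g w w' v₀ a c) (p r k : Fin m → F) (hr : a ⬝ᵥ r = 0) (hk : a ⬝ᵥ k = 0)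
    (hp : a ⬝ᵥ p = 0 ∨ ∀ x : Fin m → F, polar Q (g (∑ i, x i • w i)) (∑ i, r i • w i) = 0)
    (h1 : polar Q (g (∑ i, r i • w i)) (∑ i, r i • w i) = 0)
    (h2 : polar Q (g (∑ i, p i • w i)) (∑ i, r i • w i) = 0)
    (h3 : polar Q (g (∑ i, r i • w i)) (∑ i, p i • w i) = 0)
    (h4 : polar Q (g (∑ i, k i • w i)) (∑ i, r i • w i) * polar Q (g (∑ i, p i • w i)) (∑ i, p i • w i) = 0)
    (h5 : polar Q (g (∑ i, k i • w i)) (∑ i, p i • w i) ≠ 0)
    (h6 : polar Q (g (∑ i, k i • w i)) (∑ i, r i • w i) • p ≠ polar Q (g (∑ i, k i • w i)) (∑ i, p i • w i) • r) :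
    Pre Q m g := by
  obtain ⟨ρ, hρ⟩ : ∃ ρ : Fin m → F, ρ = fun j => polar Q (g (w j)) (∑ l, r l • w l) := ⟨_, rfl⟩
  obtain ⟨π, hπ⟩ : ∃ π : Fin m → F, π = fun j => polar Q (g (w j)) (∑ l, p l • w l) := ⟨_, rfl⟩
  have hρd : ∀ x, ρ ⬝ᵥ x = polar Q (g (∑ i, x i • w i)) (∑ l, r l • w l) := fun x => by rw [hρ]; exact dotF _ _ _ _
  have hπd : ∀ x, π ⬝ᵥ x = polar Q (g (∑ i, x i • w i)) (∑ l, p l • w l) := fun x => by rw [hπ]; exact dotF _ _ _ _
  simp only [← hρd, ← hπd] at h1 h2 h3 h4 h5 h6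
  have hcor : corner Q g w (upw w w' p r) = corner Q g w w' + (vecMulVec p ρ - vecMulVec r π) := by
    rw [corner_up, hρ, hπ]
  have hvec : corner Q g w (upw w w' p r) *ᵥ k = c • k + ((ρ ⬝ᵥ k) • p - (π ⬝ᵥ k) • r) := by
    rw [hcor, add_mulVec, sub_mulVec, B.eig k hk, vecMulVec_mulVec, vecMulVec_mulVec]
    simp
  have hnev : ∀ d : F, corner Q g w (upw w w' p r) *ᵥ k ≠ d • k := by
    intro d hd
    rw [hvec] at hd
    have e1 : (c - d) • k + ((ρ ⬝ᵥ k) • p - (π ⬝ᵥ k) • r) = 0 := by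
      rw [sub_smul, ← sub_eq_zero.2 hd]
      abel
    have e2 := congrArg (fun z => π ⬝ᵥ z) e1
    simp only [dotProduct_add, dotProduct_sub, dotProduct_smul, smul_eq_mul, dotProduct_zero, h3, h4, mul_zero,
      sub_zero, add_zero] at e2
    have e3 : c - d = 0 := (mul_eq_zero.1 e2).resolve_right h5
    rw [e3, zero_smul, zero_add] at e1
    exact h6 (sub_eq_zero.1 e1)
  have hdet : (corner Q g w (upw w w' p r)).det = 1 := by
    rcases hp with hp | hp
    · have e : corner Q g w (upw w w' p r) =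
          corner Q g w w' * (1 + (vecMulVec (c⁻¹ • p) ρ + vecMulVec (-c⁻¹ • r) π)) := by
        rw [hcor, mul_add, mul_one, mul_add, mul_vecMulVec, mul_vecMulVec, mulVec_smul, mulVec_smul, B.eig p hp,
          B.eig r hr, smul_smul, smul_smul, neg_mul, inv_mul_cancel₀ B.hc, one_smul, neg_one_smul, neg_vecMulVec,
          ← sub_eq_add_neg]
      rw [e, det_mul, B.det, det_two (by rw [dotProduct_smul, h1, smul_zero]), dotProduct_smul, dotProduct_smul, h2,
        h3, smul_zero, smul_zero]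
      ring
    · have hρ0 : ρ = 0 := by
        ext j
        have := hp (Pi.single j 1)
        rw [← hρd, dotProduct_single_one] at this
        exact this
      have e : corner Q g w (upw w w' p r) = corner Q g w w' * (1 + vecMulVec (-c⁻¹ • r) π) := by
        rw [hcor, hρ0, vecMulVec_zero, zero_sub, mul_add, mul_one, mul_vecMulVec, mulVec_smul, B.eig r hr, smul_smul,
          neg_mul, inv_mul_cancel₀ B.hc, neg_one_smul, neg_vecMulVec]
      rw [e, det_mul, B.det, det_rank_one, dotProduct_smul, h3, smul_zero]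
      ring
  refine ⟨w, upw w w' p r, frame_up B.hf p r, hdet, fun d hd => hnev d (by rw [hd, smul_mulVec, one_mulVec]),
    Or.inr (Or.inl ⟨k, fun v hv => B.kill hk ((perp_up p r).1 hv), hnev⟩)⟩

/-- some eigenvector of the corner is not an eigenvector of `g` -/
theorem good_of_image (hm : 3 < m) (h2 : (2 : F) ≠ 0) (B : Bad Q g w w' v₀ a c) (ha0 : a ≠ 0)
    {k₀ : Fin m → F} (hk₀ : a ⬝ᵥ k₀ = 0) {j₀ : Fin m} (hj₀ : polar Q (g (∑ i, k₀ i • w i)) (w j₀) ≠ 0) :
    Pre Q m g := by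
  have hll : ∀ a b : Fin m → F, polar Q (∑ j, a j • w j) (∑ j, b j • w j) = 0 := fun a b => by
    rw [polar_sum_right]
    exact Finset.sum_eq_zero fun i _ => by rw [B.hf.polar_sum_ll, mul_zero]
  by_cases hA : ∃ r : Fin m → F, r ≠ 0 ∧ a ⬝ᵥ r = 0 ∧ ∀ j, polar Q (g (∑ i, r i • w i)) (w j) = 0
  · obtain ⟨r, hr0, hr, hrj⟩ := hA
    have hsg : ∑ i, (Pi.single j₀ (1 : F) : Fin m → F) i • w i = w j₀ := by
      rw [Finset.sum_eq_single j₀ (fun j _ hj => by rw [Pi.single_eq_of_ne hj, zero_smul])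
        (fun h => absurd (Finset.mem_univ j₀) h), Pi.single_eq_same, one_smul]
    have hgr : g (∑ i, r i • w i) = c • ∑ i, r i • w i := by
      have h := B.image hr
      simp only [hrj, zero_smul, Finset.sum_const_zero, add_zero] at h
      exact h
    have hall : ∀ x : Fin m → F, polar Q (g (∑ i, x i • w i)) (∑ i, r i • w i) = 0 := by
      intro x
      have h3 : polar Q (g (∑ i, x i • w i)) (g (∑ i, r i • w i)) = 0 := by rw [polar_map B.hg, hll]
      rw [hgr, polar_smul_right, smul_eq_mul] at h3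
      exact (mul_eq_zero.1 h3).resolve_left B.hc
    refine B.move_one (Pi.single j₀ 1) r k₀ hr hk₀ (Or.inr hall) (hall r) (hall _) ?_ ?_ ?_ ?_
    · rw [hsg, hrj]
    · rw [hall, zero_mul]
    · rw [hsg]; exact hj₀
    · rw [hall, zero_smul, hsg]
      intro h
      exact (smul_ne_zero hj₀ hr0) h.symm
  · push Not at hA
    obtain ⟨e, he⟩ := exists_one ha0
    -- `p` in the kernel of `a` with `polar (g p) e = 0`
    obtain ⟨p, hp0, hap, hpe⟩ := exists_kill_two (by omega) a (fun i => polar Q (g (w i)) (∑ l, e l • w l))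
    rw [dotF] at hpe
    obtain ⟨j, hj⟩ := hA p hp0 hap
    -- `k` in the kernel of `a` with `polar (g p) k ≠ 0`
    obtain ⟨k, hk⟩ : ∃ k : Fin m → F, k = Pi.single j 1 - (a j) • e := ⟨_, rfl⟩
    have hak : a ⬝ᵥ k = 0 := by
      rw [hk, dotProduct_sub, dotProduct_single_one, dotProduct_smul, dotProduct_comm a e, he, smul_eq_mul, mul_one,
        sub_self]
    have hpk : polar Q (g (∑ i, p i • w i)) (∑ i, k i • w i) ≠ 0 := by
      have h3 : ∑ i, k i • w i = w j - (a j) • ∑ l, e l • w l := by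
        rw [hk]
        simp only [Pi.sub_apply, sub_smul, Finset.sum_sub_distrib, Pi.smul_apply, smul_assoc, ← Finset.smul_sum]
        congr 1
        rw [Finset.sum_eq_single j (fun i _ hi => by rw [Pi.single_eq_of_ne hi, zero_smul])
          (fun h => absurd (Finset.mem_univ j) h), Pi.single_eq_same, one_smul]
      rw [h3, polar_sub_right, polar_smul_right, hpe, smul_zero, sub_zero]
      exact hj
    obtain ⟨θ, hθ⟩ := exists_one hp0
    obtain ⟨r, hr0, har, hpr, hθr⟩ := exists_kill_three hm a (fun i => polar Q (g (∑ l, p l • w l)) (w i)) θ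
    have hpr' : polar Q (g (∑ i, p i • w i)) (∑ i, r i • w i) = 0 := by
      rw [polar_sum_right, ← hpr, dotProduct]
      exact Finset.sum_congr rfl fun i _ => mul_comm _ _
    have hkp : polar Q (g (∑ i, k i • w i)) (∑ i, p i • w i) ≠ 0 := by
      rw [B.anti hak hap]
      exact neg_ne_zero.2 hpk
    refine B.move_one p r k har hak (Or.inl hap) (B.self h2 har) hpr' ?_ ?_ hkp ?_
    · rw [B.anti har hap, hpr', neg_zero]
    · rw [B.self h2 hap, mul_zero]
    · intro h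
      have h3 := congrArg (fun z => (polar Q (g (∑ i, k i • w i)) (∑ i, p i • w i))⁻¹ • z) h
      simp only [smul_smul, inv_mul_cancel₀ hkp, one_smul] at h3
      exact ne_smul_of hr0 hθr hθ _ h3.symm

end Bad

end Cfsg.Agent.H258.TW
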