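import Cfsg.Agent.H258.TW.StepA

/-!
# S2452, `Ω_(2n+1)(q)`, `n` even: better frames, third and fourth move (helper258)
-/

set_option autoImplicit false
set_option linter.unusedSectionVars false

namespace Cfsg.Agent.H258.TW

open Module QuadraticMap Matrix Cfsg.Agent.LieClassical.OrthCore Cfsg.Agent.LieClassical.OrthTrans
  Cfsg.Agent.LieClassical.OrthFinite Cfsg.Agent.H140.OreO Cfsg.Agent.H126.PwO Cfsg.Agent.H141.SpinFacts
open Cfsg.Agent.H434.Corn (MaxTS)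
open Cfsg.Agent.H140.TC

variable {F V : Type*} [Field F] [AddCommGroup V] [Module F V] {Q : QuadraticForm F V} {m : ℕ}

theorem sum_upw {w w' : Fin m → V} (p r x : Fin m → F) :
    ∑ i, x i • upw w w' p r i = ∑ i, x i • w' i + ((x ⬝ᵥ p) • (∑ j, r j • w j) - (x ⬝ᵥ r) • (∑ j, p j • w j)) := by
  unfold upw
  simp only [smul_add, smul_sub, smul_smul, Finset.sum_add_distrib, Finset.sum_sub_distrib, ← Finset.sum_smul]
  rfl

namespace Bad

variable {g : V ≃ₗ[F] V} {w w' : Fin m → V} {v₀ : V} {a b : Fin m → F} {c : F}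

/-- **The second move**: eigenvalue `c ≠ ± 1`. -/
theorem good_of_ne (hm : 3 < m) (h2 : (2 : F) ≠ 0) (B : Bad Q g w w' v₀ a c) (hb : b ≠ 0) (hcc : c * c ≠ 1)
    (hW : ∀ x, a ⬝ᵥ x = 0 → g (∑ i, x i • w i) = c • ∑ i, x i • w i)
    (hW' : ∀ y, y ⬝ᵥ b = 0 → g (∑ i, y i • w' i) = c⁻¹ • ∑ i, y i • w' i) : Pre Q m g := by
  obtain ⟨k₁, k₂, l₁, l₂, k₃, hak₁, hak₂, hak₃, hbl₁, hbl₂, h11, h12, h21, h22, h13, h23, hk₃⟩ :=
    exists_dual_two hm (a := a) hb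
  have hc0 := B.hc
  have hd0 : c⁻¹ - c ≠ 0 := by
    intro h
    rw [sub_eq_zero] at h
    apply hcc
    nth_rw 1 [← h]
    exact inv_mul_cancel₀ hc0
  obtain ⟨s, hs⟩ : ∃ s : F, s * (c⁻¹ - c) = -(2 * c) := ⟨-(2 * c) * (c⁻¹ - c)⁻¹, by
    rw [mul_assoc, inv_mul_cancel₀ hd0, mul_one]⟩
  obtain ⟨K₁, hK₁⟩ : ∃ K, K = ∑ i, k₁ i • w i := ⟨_, rfl⟩
  obtain ⟨K₂, hK₂⟩ : ∃ K, K = ∑ i, k₂ i • w i := ⟨_, rfl⟩
  obtain ⟨K₃, hK₃⟩ : ∃ K, K = ∑ i, k₃ i • w i := ⟨_, rfl⟩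
  obtain ⟨L₁, hL₁⟩ : ∃ K, K = ∑ i, l₁ i • w' i := ⟨_, rfl⟩
  obtain ⟨L₂, hL₂⟩ : ∃ K, K = ∑ i, l₂ i • w' i := ⟨_, rfl⟩
  have gK₁ : g K₁ = c • K₁ := by rw [hK₁]; exact hW _ hak₁
  have gK₂ : g K₂ = c • K₂ := by rw [hK₂]; exact hW _ hak₂
  have gK₃ : g K₃ = c • K₃ := by rw [hK₃]; exact hW _ hak₃
  have gL₁ : g L₁ = c⁻¹ • L₁ := by rw [hL₁]; exact hW' _ hbl₁
  have gL₂ : g L₂ = c⁻¹ • L₂ := by rw [hL₂]; exact hW' _ hbl₂
  obtain ⟨w₁, hw₁⟩ : ∃ w₁, w₁ = upw w w' k₁ (s • k₂) := ⟨_, rfl⟩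
  have hf₁ : Frame Q w w₁ := by rw [hw₁]; exact frame_up B.hf _ _
  obtain ⟨w₂, hw₂⟩ : ∃ w₂, w₂ = upw w₁ w l₁ l₂ := ⟨_, rfl⟩
  have hf₂ : Frame Q w₂ w₁ := by rw [hw₂]; exact (frame_up hf₁.symm _ _).symm
  have hsK : ∑ j, (s • k₂) j • w j = s • K₂ := by
    rw [hK₂, Finset.smul_sum]
    exact Finset.sum_congr rfl fun i _ => by rw [Pi.smul_apply, smul_assoc]
  have e1 : ∑ i, l₁ i • w₁ i = L₁ + s • K₂ := by
    rw [hw₁, sum_upw, hsK, h11, dotProduct_smul, h12, smul_zero, zero_smul, sub_zero, one_smul, hL₁]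
  have e2 : ∑ i, l₂ i • w₁ i = L₂ - s • K₁ := by
    rw [hw₁, sum_upw, hsK, h21, dotProduct_smul, h22, smul_eq_mul, mul_one, zero_smul, zero_sub, hL₂, hK₁,
      sub_eq_add_neg]
  have hw₂a : ∀ j, w₂ j = w j + (l₁ j • (L₂ - s • K₁) - l₂ j • (L₁ + s • K₂)) := fun j => by
    rw [hw₂]
    unfold upw
    rw [e1, e2]
  have hw₁a : ∀ i, w₁ i = w' i + (k₁ i • s • K₂ - (s * k₂ i) • K₁) := fun i => by
    rw [hw₁]
    unfold upw
    rw [hsK, Pi.smul_apply, smul_eq_mul, hK₁]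
  have gw₂ : ∀ j, g (w₂ j) = g (w j) + (l₁ j • (c⁻¹ • L₂ - s • c • K₁) - l₂ j • (c⁻¹ • L₁ + s • c • K₂)) := fun j => by
    rw [hw₂a, map_add, map_sub, map_smul, map_smul, map_sub, map_add, map_smul, map_smul, gK₁, gK₂, gL₁, gL₂]
  have p1 : ∀ j, polar Q (g (w j)) K₁ = 0 := fun j => by
    have h := polar_map B.hg (w j) K₁
    rw [gK₁, polar_smul_right, hK₁, polar_comm Q (w j), B.hf.polar_sum_ll, ← hK₁, smul_eq_mul] at h
    exact (mul_eq_zero.1 h).resolve_left hc0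
  have p2 : ∀ j, polar Q (g (w j)) K₂ = 0 := fun j => by
    have h := polar_map B.hg (w j) K₂
    rw [gK₂, polar_smul_right, hK₂, polar_comm Q (w j), B.hf.polar_sum_ll, ← hK₂, smul_eq_mul] at h
    exact (mul_eq_zero.1 h).resolve_left hc0
  have q1 : ∀ j, polar Q K₁ (w' j) = k₁ j := fun j => by rw [hK₁, B.hf.polar_sum_l]
  have q2 : ∀ j, polar Q K₂ (w' j) = k₂ j := fun j => by rw [hK₂, B.hf.polar_sum_l]
  have q3 : ∀ j, polar Q L₁ (w' j) = 0 := fun j => by rw [hL₁, B.hf.polar_sum_rr]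
  have q4 : ∀ j, polar Q L₂ (w' j) = 0 := fun j => by rw [hL₂, B.hf.polar_sum_rr]
  have hll : ∀ a b : Fin m → F, polar Q (∑ j, a j • w j) (∑ j, b j • w j) = 0 := fun a b => by
    rw [polar_sum_right]
    exact Finset.sum_eq_zero fun i _ => by rw [B.hf.polar_sum_ll, mul_zero]
  have hlr : ∀ y x : Fin m → F, polar Q (∑ j, y j • w' j) (∑ j, x j • w j) = y ⬝ᵥ x := fun y x => by
    rw [polar_comm, B.hf.polar_sum_sum, dotProduct_comm]
  have r1 : polar Q K₁ K₁ = 0 := by rw [hK₁, hll]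
  have r2 : polar Q K₁ K₂ = 0 := by rw [hK₁, hK₂, hll]
  have r3 : polar Q K₂ K₁ = 0 := by rw [hK₁, hK₂, hll]
  have r4 : polar Q K₂ K₂ = 0 := by rw [hK₂, hll]
  have s1 : polar Q L₁ K₁ = 1 := by rw [hL₁, hK₁, hlr, h11]
  have s2 : polar Q L₁ K₂ = 0 := by rw [hL₁, hK₂, hlr, h12]
  have s3 : polar Q L₂ K₁ = 0 := by rw [hL₂, hK₁, hlr, h21]
  have s4 : polar Q L₂ K₂ = 1 := by rw [hL₂, hK₂, hlr, h22]
  have hcor : corner Q g w₂ w₁ = corner Q g w w' + (vecMulVec (-(2 * c) • k₁) l₁ + vecMulVec (-(2 * c) • k₂) l₂) := by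
    ext i j
    rw [corner_apply, gw₂, hw₁a, Matrix.add_apply, Matrix.add_apply, corner_apply, vecMulVec_apply, vecMulVec_apply,
      Pi.smul_apply, Pi.smul_apply, smul_eq_mul, smul_eq_mul, ← hs]
    simp only [polar_add_left, polar_add_right, polar_sub_left, polar_sub_right, polar_smul_left, polar_smul_right,
      p1, p2, q1, q2, q3, q4, r1, r2, r3, r4, s1, s2, s3, s4, smul_eq_mul]
    ring
  have hdet : (corner Q g w₂ w₁).det = 1 := by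
    have e : corner Q g w₂ w₁ =
        corner Q g w w' * (1 + (vecMulVec (-(2 : F) • k₁) l₁ + vecMulVec (-(2 : F) • k₂) l₂)) := by
      rw [hcor, mul_add, mul_one, mul_add, mul_vecMulVec, mul_vecMulVec, mulVec_smul, mulVec_smul, B.eig k₁ hak₁,
        B.eig k₂ hak₂, smul_smul, smul_smul, neg_mul]
    rw [e, det_mul, B.det, det_two (by rw [dotProduct_smul, h12, smul_zero]), dotProduct_smul, dotProduct_smul, h11,
      h22, smul_eq_mul]
    ring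
  have hx : corner Q g w₂ w₁ *ᵥ (k₁ + k₃) = c • k₃ - c • k₁ := by
    rw [hcor, add_mulVec, add_mulVec, vecMulVec_mulVec, vecMulVec_mulVec, mulVec_add, B.eig k₁ hak₁, B.eig k₃ hak₃,
      dotProduct_add, dotProduct_add, h11, h13, h21, h23]
    ext i
    simp
    ring
  have hnev : ∀ d : F, corner Q g w₂ w₁ *ᵥ (k₁ + k₃) ≠ d • (k₁ + k₃) := by
    intro d hd
    rw [hx] at hd
    have e3 := congrArg (fun z => l₁ ⬝ᵥ z) hd
    simp only [dotProduct_sub, dotProduct_smul, dotProduct_add, h13, h11, smul_eq_mul, mul_zero, mul_one, zero_sub,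
      add_zero] at e3
    rw [← e3] at hd
    have e4 : (2 * c) • k₃ = 0 := by
      rw [smul_add, neg_smul, neg_smul, sub_eq_iff_eq_add] at hd
      rw [two_mul, add_smul]
      nth_rw 1 [hd]
      abel
    exact hk₃ ((smul_eq_zero.1 e4).resolve_left (mul_ne_zero h2 hc0))
  refine ⟨w₂, w₁, hf₂, hdet, fun d hd => hnev d (by rw [hd, smul_mulVec, one_mulVec]),
    Or.inr (Or.inl ⟨k₁ + k₃, fun v hv => ?_, hnev⟩)⟩
  have hv1 : v ∈ perp Q w w' := by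
    have h1 := mem_perp_symm hv
    rw [hw₂, perp_up] at h1
    have h3 := mem_perp_symm h1
    rw [hw₁, perp_up] at h3
    exact h3
  have e5 : ∑ i, (k₁ + k₃) i • w₂ i = (K₁ + K₃) + (L₂ - s • K₁) := by
    rw [hw₂, sum_upw, e1, e2, add_dotProduct, add_dotProduct, dotProduct_comm k₁ l₁, dotProduct_comm k₃ l₁,
      dotProduct_comm k₁ l₂, dotProduct_comm k₃ l₂, h11, h13, h21, h23, add_zero, add_zero, one_smul, zero_smul,
      sub_zero, hK₁, hK₃, ← Finset.sum_add_distrib]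
    congr 1
    exact Finset.sum_congr rfl fun i _ => by rw [Pi.add_apply, add_smul]
  rw [e5, map_add, map_add, map_sub, map_smul, gK₁, gK₃, gL₂]
  have t1 : polar Q K₁ v = 0 := by rw [hK₁]; exact Frame.polar_perp_l _ hv1
  have t3 : polar Q K₃ v = 0 := by rw [hK₃]; exact Frame.polar_perp_l _ hv1
  have t2 : polar Q L₂ v = 0 := by rw [hL₂]; exact Frame.polar_perp_r _ hv1
  simp only [polar_add_left, polar_sub_left, polar_smul_left, t1, t2, t3, smul_zero, add_zero, sub_zero]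

end Bad

end Cfsg.Agent.H258.TW
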