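import Cfsg.Agent.H258.TW.StepB

/-!
# S2452, `Ω_(2n+1)(q)`, `n` even: better frames, last move (helper258)
-/

set_option autoImplicit false
set_option linter.unusedSectionVars false

namespace Cfsg.Agent.H258.TW

open Module QuadraticMap Matrix Cfsg.Agent.LieClassical.OrthCore Cfsg.Agent.LieClassical.OrthTrans
  Cfsg.Agent.LieClassical.OrthFinite Cfsg.Agent.H140.OreO Cfsg.Agent.H126.PwO Cfsg.Agent.H141.SpinFacts
open Cfsg.Agent.H434.Corn (MaxTS)
open Cfsg.Agent.H140.TC

variable {F V : Type*} [Field F] [AddCommGroup V] [Module F V] {Q : QuadraticForm F V} {m : ℕ}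

namespace Bad

variable {g : V ≃ₗ[F] V} {w w' : Fin m → V} {v₀ : V} {a b : Fin m → F}

/-- **The third move**: eigenvalue `1`. -/
theorem good_of_one [FiniteDimensional F V] (hm : 3 < m) (h2 : (2 : F) ≠ 0) (hdim : finrank F V = 2 * m + 1)
    (B : Bad Q g w w' v₀ a 1) (hb : b ≠ 0)
    (hbd : ∀ i, b i = polar Q (g v₀) (w' i)) {κ : F}
    (hA : corner Q g w w' = 1 + vecMulVec (κ • b) a) (hab : a ⬝ᵥ b = 0) (hS : SchurOne Q g w w')
    (hW : ∀ x, a ⬝ᵥ x = 0 → g (∑ i, x i • w i) = ∑ i, x i • w i)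
    (hW' : ∀ y, y ⬝ᵥ b = 0 → g (∑ i, y i • w' i) = ∑ i, y i • w' i) : Pre Q m g := by
  obtain ⟨k, l, hak, hbl, hlk⟩ := exists_dual_one (by omega) (a := a) hb
  obtain ⟨K, hK⟩ : ∃ K, K = ∑ i, k i • w i := ⟨_, rfl⟩
  obtain ⟨L, hL⟩ : ∃ K, K = ∑ i, l i • w' i := ⟨_, rfl⟩
  have gK : g K = K := by rw [hK]; exact hW _ hak
  have gL : g L = L := by rw [hL]; exact hW' _ hbl
  obtain ⟨q, hq⟩ : ∃ q, q = Q v₀ := ⟨_, rfl⟩
  have hvv : polar Q v₀ v₀ = 2 * q := by
    rw [hq, QuadraticMap.polar_self, nsmul_eq_mul, Nat.cast_ofNat]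
  have hq0 : q ≠ 0 := by
    intro h
    apply B.hq
    rw [hvv, h, mul_zero]
  -- the fixed vector
  obtain ⟨z, hz⟩ : ∃ z, z = q • K + L := ⟨_, rfl⟩
  have gz : g z = z := by rw [hz, map_add, map_smul, gK, gL]
  have wK : ∀ j, polar Q (w j) K = 0 := fun j => by rw [hK, polar_comm, B.hf.polar_sum_ll]
  have wL : ∀ j, polar Q (w j) L = l j := fun j => by rw [hL, polar_comm, B.hf.polar_sum_r]
  have w'K : ∀ j, polar Q (w' j) K = k j := fun j => by rw [hK, polar_comm, B.hf.polar_sum_l]
  have w'L : ∀ j, polar Q (w' j) L = 0 := fun j => by rw [hL, polar_comm, B.hf.polar_sum_rr]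
  have KL : polar Q K L = 1 := by rw [hK, hL, B.hf.polar_sum_sum, dotProduct_comm]; exact hlk
  have KK : Q K = 0 := by rw [hK]; exact B.hf.Q_sum_l _ _
  have LL : Q L = 0 := by rw [hL]; exact B.hf.Q_sum_r _ _
  have wz : ∀ j, polar Q (w j) z = l j := fun j => by
    rw [hz, polar_add_right, polar_smul_right, wK, wL, smul_zero, zero_add]
  have w'z : ∀ j, polar Q (w' j) z = q * k j := fun j => by
    rw [hz, polar_add_right, polar_smul_right, w'K, w'L, add_zero, smul_eq_mul]
  have Qz : Q z = q := by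
    rw [hz, Q_add, QuadraticMap.map_smul, KK, LL, smul_zero, polar_smul_left, KL, smul_eq_mul]
    ring
  have zz : polar Q z z = 2 * q := by rw [QuadraticMap.polar_self, Qz, nsmul_eq_mul, Nat.cast_ofNat]
  have vz : polar Q v₀ z = 0 := by
    rw [hz, polar_add_right, polar_smul_right, polar_comm Q v₀ K, polar_comm Q v₀ L, hK, hL,
      Frame.polar_perp_l _ B.hv, Frame.polar_perp_r _ B.hv, smul_zero, zero_add]
  have wv : ∀ j, polar Q (w j) v₀ = 0 := fun j => (B.hv j).1
  have w'v : ∀ j, polar Q (w' j) v₀ = 0 := fun j => (B.hv j).2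
  -- the value `polar (g v₀) v₀`
  have gvv : polar Q (g v₀) v₀ = 2 * q := by
    obtain ⟨c, d, hcd⟩ := hS v₀ B.hv
    have e1 : corner Q g w w' *ᵥ c = -b := by
      ext i
      have e2 := congrArg (fun y => polar Q y (w' i)) hcd
      simp only [map_add, polar_add_left] at e2
      rw [polar_g_right, B.hf.polar_sum_rr, polar_comm Q v₀, w'v, add_zero, ← hbd] at e2
      rw [mulVec, dotProduct, Pi.neg_apply, ← sub_eq_zero, ← e2]
      simp only [corner_apply]
      rw [Finset.sum_congr rfl fun j _ => mul_comm (polar Q (g (w j)) (w' i)) (c j)]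
      ring
    rw [hA, add_mulVec, one_mulVec, vecMulVec_mulVec] at e1
    have e3 := congrArg (fun y => a ⬝ᵥ y) e1
    simp only [dotProduct_add, dotProduct_neg, hab, neg_zero] at e3
    have e4 : a ⬝ᵥ c = 0 := by
      rw [← e3]
      simp [dotProduct_smul, hab]
    have e5 := congrArg (fun y => polar Q y v₀) hcd
    simp only [map_add, polar_add_left] at e5
    rw [B.dot, e4, Frame.polar_perp_r _ B.hv, add_zero, add_zero, hvv] at e5
    exact e5
  obtain ⟨u, hu⟩ : ∃ u, u = v₀ - z := ⟨_, rfl⟩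
  have wu : ∀ j, polar Q (w j) u = - l j := fun j => by rw [hu, polar_sub_right, wv, wz, zero_sub]
  have w'u : ∀ j, polar Q (w' j) u = -(q * k j) := fun j => by rw [hu, polar_sub_right, w'v, w'z, zero_sub]
  have uu : polar Q u u = 4 * q := by
    rw [hu, polar_sub_left, polar_sub_right, polar_sub_right, hvv, zz, vz, polar_comm, vz]
    ring
  have Qu : Q u = 2 * q := by
    have h := uu
    rw [QuadraticMap.polar_self, nsmul_eq_mul, Nat.cast_ofNat] at h
    apply mul_left_cancel₀ h2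
    rw [h]
    ring
  have uz : polar Q u z = -(2 * q) := by rw [hu, polar_sub_left, vz, zz, zero_sub]
  -- the new frame
  obtain ⟨t, ht⟩ : ∃ t : F, t * (2 * q) = 1 := ⟨(2 * q)⁻¹, inv_mul_cancel₀ (mul_ne_zero h2 hq0)⟩
  obtain ⟨o, ho⟩ : ∃ o : F, o * 2 = 1 := ⟨2⁻¹, inv_mul_cancel₀ h2⟩
  have htq : t * q = o := by
    apply mul_right_cancel₀ h2
    rw [ho, ← ht]
    ring
  obtain ⟨w₂, hw₂⟩ : ∃ w₂ : Fin m → V, w₂ = fun j => w j + (t * l j) • u := ⟨_, rfl⟩
  obtain ⟨w₃, hw₃⟩ : ∃ w₃ : Fin m → V, w₃ = fun j => w' j + (o * k j) • u := ⟨_, rfl⟩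
  have hw₂a : ∀ j, w₂ j = w j + (t * l j) • u := fun j => by rw [hw₂]
  have hw₃a : ∀ j, w₃ j = w' j + (o * k j) • u := fun j => by rw [hw₃]
  have uw : ∀ j, polar Q u (w j) = - l j := fun j => by rw [polar_comm, wu]
  have uw' : ∀ j, polar Q u (w' j) = -(q * k j) := fun j => by rw [polar_comm, w'u]
  have hf₂ : Frame Q w₂ w₃ := by
    refine ⟨fun i => ?_, fun i => ?_, fun i j => ?_, fun i j => ?_, fun i j => ?_⟩
    · rw [hw₂a, Q_add, B.hf.sl, QuadraticMap.map_smul, Qu, polar_smul_right, wu, smul_eq_mul, smul_eq_mul]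
      linear_combination (l i * l i * t) * ht
    · rw [hw₃a, Q_add, B.hf.sr, QuadraticMap.map_smul, Qu, polar_smul_right, w'u, smul_eq_mul, smul_eq_mul]
      linear_combination (k i * k i * o * q) * ho
    · rw [hw₂a, hw₂a]
      simp only [polar_add_left, polar_add_right, polar_smul_left, polar_smul_right, B.hf.ll, wu, uw, uu, smul_eq_mul]
      linear_combination (2 * l i * l j * t) * ht
    · rw [hw₃a, hw₃a]
      simp only [polar_add_left, polar_add_right, polar_smul_left, polar_smul_right, B.hf.rr, w'u, uw', uu,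
        smul_eq_mul]
      linear_combination (2 * k i * k j * o * q) * ho
    · rw [hw₂a, hw₃a]
      simp only [polar_add_left, polar_add_right, polar_smul_left, polar_smul_right, B.hf.lr, wu, uw', uu,
        smul_eq_mul]
      linear_combination (- l i * k j) * htq + (2 * l i * k j * o) * ht
  have gu : g u = g v₀ - z := by rw [hu, map_sub, gz]
  have gwz : ∀ j, polar Q (g (w j)) z = l j := fun j => by
    have h := polar_map B.hg (w j) z
    rw [gz, wz] at h
    exact h
  have gvz : polar Q (g v₀) z = 0 := by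
    have h := polar_map B.hg v₀ z
    rw [gz, vz] at h
    exact h
  have g1 : ∀ j, polar Q (g (w j)) u = a j - l j := fun j => by rw [hu, polar_sub_right, gwz, ← B.ha]
  have g2 : ∀ i, polar Q (g u) (w' i) = b i - q * k i := fun i => by
    rw [gu, polar_sub_left, ← hbd, polar_comm Q z, w'z]
  have g3 : polar Q (g u) u = 4 * q := by
    rw [gu, hu, polar_sub_left, polar_sub_right, polar_sub_right, gvv, gvz, polar_comm Q z v₀, vz, zz]
    ring
  have hcor : corner Q g w₂ w₃ = 1 + (vecMulVec (o • k) a + vecMulVec b (κ • a + t • l)) := by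
    ext i j
    have e0 := congrArg (fun M => M i j) hA
    simp only [corner_apply, Matrix.add_apply, vecMulVec_apply, Pi.smul_apply, smul_eq_mul] at e0
    rw [corner_apply, hw₂a, hw₃a, map_add, map_smul]
    simp only [polar_add_left, polar_add_right, polar_smul_left, polar_smul_right, Matrix.add_apply, vecMulVec_apply,
      Pi.smul_apply, Pi.add_apply, smul_eq_mul, g1, g2, g3, e0]
    linear_combination (-(l j) * k i) * htq + (2 * l j * k i * o) * ht
  have hdet : (corner Q g w₂ w₃).det = 1 := by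
    rw [hcor, det_two hab, dotProduct_smul, hak, add_dotProduct, smul_dotProduct, smul_dotProduct, hab, hbl]
    simp
  have hx : corner Q g w₂ w₃ *ᵥ k = k + t • b := by
    rw [hcor, add_mulVec, add_mulVec, one_mulVec, vecMulVec_mulVec, vecMulVec_mulVec, hak, add_dotProduct,
      smul_dotProduct, smul_dotProduct, hak, hlk]
    simp
  have ht0 : t ≠ 0 := by
    rintro rfl
    rw [zero_mul] at ht
    exact zero_ne_one ht
  have hnev : ∀ d : F, corner Q g w₂ w₃ *ᵥ k ≠ d • k := by
    intro d hd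
    rw [hx] at hd
    have e3 := congrArg (fun z => l ⬝ᵥ z) hd
    simp only [dotProduct_add, dotProduct_smul, hlk, hbl, smul_eq_mul, mul_zero, mul_one, add_zero] at e3
    rw [← e3, one_smul, add_eq_left] at hd
    exact (smul_ne_zero ht0 hb) hd
  refine ⟨w₂, w₃, hf₂, hdet, fun d hd => hnev d (by rw [hd, smul_mulVec, one_mulVec]),
    Or.inr (Or.inl ⟨k, fun v hv => ?_, hnev⟩)⟩
  have hzp : z ∈ perp Q w₂ w₃ := by
    intro j
    constructor
    · rw [hw₂a, polar_add_left, polar_smul_left, wz, uz, smul_eq_mul]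
      linear_combination (- l j) * ht
    · rw [hw₃a, polar_add_left, polar_smul_left, w'z, uz, smul_eq_mul]
      linear_combination (- q * k j) * ho
  have hz0 : (⟨z, hzp⟩ : perp Q w₂ w₃) ≠ 0 := by
    intro h
    have h1 : z = 0 := congrArg Subtype.val h
    rw [h1, QuadraticMap.map_zero] at Qz
    exact hq0 Qz.symm
  have hfr : finrank F (perp Q w₂ w₃) = 1 := by
    have := hf₂.finrank_perp
    omega
  obtain ⟨s, hs⟩ := (finrank_eq_one_iff_of_nonzero' _ hz0).1 hfr ⟨v, hv⟩
  have hs' : s • z = v := congrArg Subtype.val hs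
  have gv : g v = v := by rw [← hs', map_smul, gz]
  have h3 := polar_map B.hg (∑ i, k i • w₂ i) v
  rw [gv] at h3
  rw [h3]
  exact Frame.polar_perp_l _ hv

end Bad

end Cfsg.Agent.H258.TW
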